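import Groth.Agent.FieldExtLD.Algebra
import Mathlib.RingTheory.Ideal.AssociatedPrime.Finiteness
import Mathlib.RingTheory.Ideal.AssociatedPrime.Localization
import Mathlib.LinearAlgebra.TensorProduct.Prod
import Mathlib.RingTheory.Flat.Basic
import Mathlib.RingTheory.Nilpotent.Lemmas

/-!
# Associated primes of tensor products with flat modules
-/

universe u

open TensorProduct Submodule

namespace Groth.Agent.CAlgAssTensor

variable {R : Type u} [CommRing R] (S : Type u) [CommRing S] [Algebra R S] (N : Type u) [AddCommGroup N]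
  [Module S N] [Module R N] [IsScalarTower R S N]

/-- `N ⊗ R/p = N/pN`. -/
noncomputable def tensorQuotEquiv (p : Ideal R) :
    (N ⊗[R] (R ⧸ p)) ≃ₗ[S] N ⧸ p.map (algebraMap R S) • (⊤ : Submodule S N) := by
  let K := p.map (algebraMap R S) • (⊤ : Submodule S N)
  have hK : ∀ r ∈ p, ∀ n : N, r • n ∈ K := fun r hr n => by
    rw [← algebraMap_smul S r n]
    exact Submodule.smul_mem_smul (Ideal.mem_map_of_mem _ hr) trivial
  let β : N →ₗ[S] (R ⧸ p) →ₗ[R] N ⧸ K :=
    { toFun := fun n => Submodule.liftQ p ((LinearMap.id : R →ₗ[R] R).smulRight (Submodule.Quotient.mk n : N ⧸ K)) fun r hr => by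
        rw [LinearMap.mem_ker, LinearMap.smulRight_apply, LinearMap.id_apply, ← Submodule.Quotient.mk_smul,
          Submodule.Quotient.mk_eq_zero]
        exact hK r hr n
      map_add' := fun m n => by
        apply Submodule.linearMap_qext
        ext
        show (1 : R) • (Submodule.Quotient.mk (m + n) : N ⧸ K) = (1 : R) • Submodule.Quotient.mk m + (1 : R) • Submodule.Quotient.mk n
        simp
      map_smul' := fun s n => by
        apply Submodule.linearMap_qext
        ext
        show (1 : R) • (Submodule.Quotient.mk (s • n) : N ⧸ K) = s • (1 : R) • (Submodule.Quotient.mk n : N ⧸ K)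
        simp }
  let φ : N ⊗[R] (R ⧸ p) →ₗ[S] N ⧸ K := TensorProduct.AlgebraTensorModule.lift β
  let ψ₀ : N →ₗ[S] N ⊗[R] (R ⧸ p) :=
    { toFun := fun n => n ⊗ₜ[R] (1 : R ⧸ p)
      map_add' := fun a b => add_tmul a b _
      map_smul' := fun s n => rfl }
  have hψ : K ≤ LinearMap.ker ψ₀ := by
    refine Submodule.smul_le.2 fun s hs n _ => ?_
    rw [LinearMap.mem_ker, map_smul]
    induction hs using Submodule.span_induction with
    | mem x hx =>
      obtain ⟨r, hr, rfl⟩ := hx
      rw [algebraMap_smul]
      show r • (n ⊗ₜ[R] (1 : R ⧸ p)) = 0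
      rw [← tmul_smul, ← Algebra.algebraMap_eq_smul_one, Ideal.Quotient.algebraMap_eq,
        Ideal.Quotient.eq_zero_iff_mem.2 hr, tmul_zero]
    | zero => simp
    | add x y _ _ hx hy => rw [add_smul, hx, hy, add_zero]
    | smul a x _ hx => rw [smul_eq_mul, mul_smul, hx, smul_zero]
  refine LinearEquiv.ofLinearMap φ (K.liftQ ψ₀ hψ) ?_ ?_
  · apply Submodule.linearMap_qext
    refine LinearMap.ext fun n => ?_
    show β n (Ideal.Quotient.mk p 1) = Submodule.Quotient.mk n
    exact one_smul R (Submodule.Quotient.mk n : N ⧸ K)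
  · apply TensorProduct.AlgebraTensorModule.ext
    intro n x
    obtain ⟨r, rfl⟩ := Ideal.Quotient.mk_surjective x
    show ψ₀ (r • n) = n ⊗ₜ Ideal.Quotient.mk p r
    show (r • n) ⊗ₜ[R] (1 : R ⧸ p) = _
    rw [smul_tmul, ← Algebra.algebraMap_eq_smul_one, Ideal.Quotient.algebraMap_eq]

variable [Module.Flat R N] {M M' : Type u} [AddCommGroup M] [Module R M] [AddCommGroup M'] [Module R M']

theorem subset_of_injective (f : M →ₗ[R] M') (hf : Function.Injective f) :
    associatedPrimes S (N ⊗[R] M) ⊆ associatedPrimes S (N ⊗[R] M') :=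
  associatedPrimes.subset_of_injective (f := TensorProduct.AlgebraTensorModule.lTensor S N f)
    (Module.Flat.lTensor_preserves_injective_linearMap f hf)

theorem subset_union (U : Submodule R M) :
    associatedPrimes S (N ⊗[R] M) ⊆ associatedPrimes S (N ⊗[R] U) ∪ associatedPrimes S (N ⊗[R] (M ⧸ U)) :=
  associatedPrimes.subset_union_of_exact (f := TensorProduct.AlgebraTensorModule.lTensor S N U.subtype)
    (g := TensorProduct.AlgebraTensorModule.lTensor S N U.mkQ)
    (Module.Flat.lTensor_preserves_injective_linearMap _ U.injective_subtype)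
    (lTensor_exact N (LinearMap.exact_subtype_mkQ U) U.mkQ_surjective)

theorem subset_single_pi (p : Ideal R) (n : ℕ) :
    associatedPrimes S (N ⊗[R] (Fin n → R ⧸ p)) ⊆
      associatedPrimes S (N ⧸ p.map (algebraMap R S) • (⊤ : Submodule S N)) := by
  induction n with
  | zero =>
    intro q hq
    exact absurd hq (not_isAssociatedPrime_of_subsingleton)
  | succ n ih =>
    let e : (Fin (n + 1) → R ⧸ p) ≃ₗ[R] (R ⧸ p) × (Fin n → R ⧸ p) :=
      (Fin.consLinearEquiv R (fun _ : Fin (n + 1) => R ⧸ p)).symm
    intro q hq
    have hq' := subset_of_injective S N e.toLinearMap e.injective hq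
    rw [LinearEquiv.AssociatedPrimes.eq (TensorProduct.prodRight R S N (R ⧸ p) (Fin n → R ⧸ p)), associatedPrimes.prod] at hq'
    rcases hq' with h | h
    · rwa [LinearEquiv.AssociatedPrimes.eq (tensorQuotEquiv S N p)] at h
    · exact ih h

variable [IsNoetherianRing R]

theorem mem_of_smul_eq_zero {p : Ideal R} (h : associatedPrimes R M ⊆ {p}) {r : R} (hr : r ∉ p) {m : M}
    (hm : r • m = 0) : m = 0 := by
  by_contra h0
  obtain ⟨P, hP, hle⟩ := exists_le_isAssociatedPrime_of_isNoetherianRing R m h0
  rw [h hP] at hle
  exact hr (hle (Submodule.mem_colon_singleton.2 hm))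

omit [IsNoetherianRing R] in
theorem subset_of_torsionFree (p : Ideal R) [p.IsPrime] [Module.Finite R M]
    (hp : ∀ r ∈ p, ∀ m : M, r • m = 0) (hfree : ∀ r ∉ p, ∀ m : M, r • m = 0 → m = 0) :
    associatedPrimes S (N ⊗[R] M) ⊆ associatedPrimes S (N ⧸ p.map (algebraMap R S) • (⊤ : Submodule S N)) := by
  letI : Module (R ⧸ p) M := Module.IsTorsionBySet.module (I := p) fun m r => hp r.1 r.2 m
  haveI : IsScalarTower R (R ⧸ p) M := IsScalarTower.of_algebraMap_smul fun r m => rfl
  haveI : Module.Finite (R ⧸ p) M := Module.Finite.of_restrictScalars_finite R _ _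
  haveI : Module.IsTorsionFree (R ⧸ p) M := by
    rw [Module.isTorsionFree_iff_smul_eq_zero]
    intro r m hrm
    obtain ⟨r, rfl⟩ := Ideal.Quotient.mk_surjective r
    by_cases hr : r ∈ p
    · exact Or.inl (Ideal.Quotient.eq_zero_iff_mem.2 hr)
    · exact Or.inr (hfree r hr m hrm)
  obtain ⟨n, ψ, hψ⟩ := FieldExtLD.exists_injective_toPi (R := R ⧸ p) (M := M)
  exact (subset_of_injective S N (ψ.restrictScalars R) hψ).trans (subset_single_pi S N p n)

theorem subset_of_single {p : Ideal R} [p.IsPrime] [Module.Finite R M] (h : associatedPrimes R M ⊆ {p}) :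
    associatedPrimes S (N ⊗[R] M) ⊆ associatedPrimes S (N ⧸ p.map (algebraMap R S) • (⊤ : Submodule S N)) := by
  -- `p` is nilpotent on `M`
  obtain ⟨k, hk⟩ : ∃ k : ℕ, p ^ k ≤ Module.annihilator R M := by
    have hle : p ≤ (Module.annihilator R M).radical := by
      intro x hx
      rw [Ideal.radical_eq_sInf, Submodule.mem_sInf]
      rintro P ⟨hP, hPp⟩
      obtain ⟨Q, hQ, hQP⟩ := Ideal.exists_minimalPrimes_le hP
      have := Module.associatedPrimes.minimalPrimes_annihilator_subset_associatedPrimes R M hQ
      rw [h this] at hQP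
      exact hQP hx
    obtain ⟨k, hk⟩ := Ideal.exists_radical_pow_le_of_fg (Module.annihilator R M) (IsNoetherian.noetherian _)
    exact ⟨k, (Ideal.pow_right_mono hle k).trans hk⟩
  induction k generalizing M with
  | zero =>
    intro q hq
    haveI : Subsingleton M := ⟨fun a b => by
      have h1 : (1 : R) ∈ Module.annihilator R M := hk (by simp)
      rw [Module.mem_annihilator] at h1
      rw [← one_smul R a, ← one_smul R b, h1, h1]⟩
    exact absurd hq not_isAssociatedPrime_of_subsingleton
  | succ k ih =>
    let T : Submodule R M :=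
      { carrier := {m | ∀ r ∈ p ^ k, r • m = 0}
        add_mem' := fun ha hb r hr => by rw [smul_add, ha r hr, hb r hr, add_zero]
        zero_mem' := fun r _ => smul_zero r
        smul_mem' := fun c m hm r hr => by rw [smul_comm, hm r hr, smul_zero] }
    refine (subset_union S N T).trans (Set.union_subset ?_ ?_)
    · refine ih ((associatedPrimes.subset_of_injective T.injective_subtype).trans h) fun r hr => ?_
      rw [Module.mem_annihilator]
      exact fun m => Subtype.ext (m.2 r hr)
    · refine subset_of_torsionFree S N p (fun r hr m => ?_) fun r hr m hm => ?_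
      · obtain ⟨m, rfl⟩ := T.mkQ_surjective m
        rw [← map_smul, Submodule.mkQ_apply, Submodule.Quotient.mk_eq_zero]
        intro s hs
        rw [smul_smul]
        exact Module.mem_annihilator.1 (hk (pow_succ p k ▸ Ideal.mul_mem_mul hs hr)) m
      · obtain ⟨m, rfl⟩ := T.mkQ_surjective m
        rw [← map_smul, Submodule.mkQ_apply, Submodule.Quotient.mk_eq_zero] at hm
        rw [Submodule.mkQ_apply, Submodule.Quotient.mk_eq_zero]
        intro s hs
        refine mem_of_smul_eq_zero h hr ?_
        rw [smul_comm]
        exact hm s hs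

theorem subset_of_finite [Module.Finite R M] :
    associatedPrimes S (N ⊗[R] M) ⊆
      ⋃ p ∈ associatedPrimes R M, associatedPrimes S (N ⧸ p.map (algebraMap R S) • (⊤ : Submodule S N)) := by
  classical
  have hfin := associatedPrimes.finite R M
  obtain ⟨s, hs⟩ := hfin.exists_finset_coe
  rw [← hs]
  have hM : associatedPrimes R M ⊆ s := hs.ge
  clear hfin hs
  induction s using Finset.strongInduction generalizing M with
  | _ s ih =>
    rcases subsingleton_or_nontrivial M with _ | _
    · intro q hq
      exact absurd hq not_isAssociatedPrime_of_subsingleton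
    obtain ⟨p, hp⟩ := associatedPrimes.nonempty R M
    obtain ⟨U, hU, hmax⟩ := set_has_maximal_iff_noetherian.2 (inferInstance : IsNoetherian R M)
      {U : Submodule R M | p ∉ associatedPrimes R U}
      ⟨⊥, fun h => not_isAssociatedPrime_of_subsingleton h⟩
    haveI : p.IsPrime := hp.isPrime
    have hquot : associatedPrimes R (M ⧸ U) ⊆ {p} := by
      intro q hq
      by_contra hne
      obtain ⟨hqp, x, hx⟩ := isAssociatedPrime_iff.1 hq
      obtain ⟨x, rfl⟩ := U.mkQ_surjective x
      let U' := U ⊔ Submodule.span R {x}
      have hxU : x ∉ U := fun h => hqp.ne_top (by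
        rw [hx, Submodule.mkQ_apply, (Submodule.Quotient.mk_eq_zero U).2 h]
        exact (Submodule.colon_eq_top_iff_subset _).2 (by simp))
      have hlt : U < U' := lt_of_le_not_ge le_sup_left fun h => hxU (h (Submodule.mem_sup_right (Submodule.mem_span_singleton_self x)))
      have hpU' : p ∈ associatedPrimes R U' := by
        by_contra h
        exact hmax U' h hlt
      let g : U' →ₗ[R] M ⧸ U := U.mkQ.comp U'.subtype
      have hexact : Function.Exact (Submodule.inclusion (le_sup_left : U ≤ U')) g := by
        rw [LinearMap.exact_iff, Submodule.range_inclusion]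
        ext y
        simp [g]
      let g' : U' →ₗ[R] LinearMap.range g := g.rangeRestrict
      have hexact' : Function.Exact (Submodule.inclusion (le_sup_left : U ≤ U')) g' := by
        intro y
        rw [← hexact y]
        exact ⟨fun h => congrArg Subtype.val h, fun h => Subtype.ext h⟩
      rcases associatedPrimes.subset_union_of_exact (Submodule.inclusion_injective _) hexact' hpU' with h | h
      · exact hU h
      · obtain ⟨-, y, hy⟩ := isAssociatedPrime_iff.1 h
        have hrange : LinearMap.range g = Submodule.span R {U.mkQ x} := by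
          rw [LinearMap.range_comp, Submodule.range_subtype, Submodule.map_sup, Submodule.map_span,
            Set.image_singleton]
          simp
        obtain ⟨c, hc⟩ := Submodule.mem_span_singleton.1 (hrange.le y.2)
        have hcq : c ∉ q := by
          intro hcq
          rw [hx, Submodule.mem_colon_singleton] at hcq
          have hy0 : y = 0 := Subtype.ext (hc.symm.trans hcq)
          rw [hy0] at hy
          exact h.isPrime.ne_top (hy.trans ((Submodule.colon_eq_top_iff_subset _).2 (by simp)))
        apply hne
        show q = p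
        ext r
        rw [hy, Submodule.mem_colon_singleton, Submodule.mem_bot, ← Subtype.coe_inj, Submodule.coe_smul, ← hc,
          smul_smul, Submodule.coe_zero, ← Submodule.mem_bot R, ← Submodule.mem_colon_singleton, ← hx]
        exact ⟨fun hr => q.mul_mem_right c hr, fun hr => (hqp.mem_or_mem hr).resolve_right hcq⟩
    refine (subset_union S N U).trans (Set.union_subset ?_ ?_)
    · refine (ih (s.erase p) (Finset.erase_ssubset (hM hp)) (M := U) fun q hq => ?_).trans
        (Set.biUnion_subset_biUnion_left (by simp [Finset.coe_erase]))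
      rw [Finset.coe_erase]
      exact ⟨hM (associatedPrimes.subset_of_injective U.injective_subtype hq), fun e => hU (e ▸ hq)⟩
    · intro q hq
      exact Set.mem_biUnion (hM hp) (subset_of_single S N hquot hq)

theorem associatedPrimes_tensor :
    associatedPrimes S (N ⊗[R] M) =
      ⋃ p ∈ associatedPrimes R M, associatedPrimes S (N ⧸ p.map (algebraMap R S) • (⊤ : Submodule S N)) := by
  refine Set.Subset.antisymm (fun q hq => ?_) (Set.iUnion₂_subset fun p hp q hq => ?_)
  · obtain ⟨hqp, z, hz⟩ := id hq
    obtain ⟨t, ht⟩ := TensorProduct.exists_finset z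
    classical
    let M₀ : Submodule R M := Submodule.span R ((t.image Prod.snd : Finset M) : Set M)
    haveI : Module.Finite R M₀ := Module.Finite.span_of_finite R (Finset.finite_toSet _)
    have hzr : z ∈ LinearMap.range (TensorProduct.AlgebraTensorModule.lTensor S N M₀.subtype) := by
      rw [ht]
      refine Submodule.sum_mem _ fun i hi => ?_
      exact ⟨i.1 ⊗ₜ ⟨i.2, Submodule.subset_span (Finset.mem_coe.2 (Finset.mem_image_of_mem _ hi))⟩, rfl⟩
    obtain ⟨w, rfl⟩ := hzr
    have hinj : Function.Injective (TensorProduct.AlgebraTensorModule.lTensor S N M₀.subtype) :=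
      Module.Flat.lTensor_preserves_injective_linearMap _ M₀.injective_subtype
    have hqw : q ∈ associatedPrimes S (N ⊗[R] M₀) := by
      refine ⟨hqp, w, hz.trans ?_⟩
      congr 1
      ext r
      rw [Submodule.mem_colon_singleton, Submodule.mem_colon_singleton, Submodule.mem_bot, Submodule.mem_bot,
        ← map_smul, map_eq_zero_iff _ hinj]
    exact Set.biUnion_subset_biUnion_left (associatedPrimes.subset_of_injective M₀.injective_subtype)
      (subset_of_finite S N hqw)
  · haveI := hp.isPrime
    obtain ⟨-, x, hx⟩ := isAssociatedPrime_iff.1 hp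
    let f : (R ⧸ p) →ₗ[R] M := Submodule.liftQ p ((LinearMap.id : R →ₗ[R] R).smulRight x) fun r hr => by
      rw [hx, Submodule.mem_colon_singleton, Submodule.mem_bot] at hr
      exact hr
    have hf : Function.Injective f := by
      refine (injective_iff_map_eq_zero f).2 fun r hr => ?_
      obtain ⟨r, rfl⟩ := Ideal.Quotient.mk_surjective r
      rw [Ideal.Quotient.eq_zero_iff_mem, hx, Submodule.mem_colon_singleton, Submodule.mem_bot]
      exact hr
    rw [← LinearEquiv.AssociatedPrimes.eq (tensorQuotEquiv S N p)] at hq
    exact subset_of_injective S N f hf hq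

end Groth.Agent.CAlgAssTensor
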